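import Cfsg.Agent.Lib.H17.M22M.MonoRows

set_option autoImplicit false

/-!
# Wide twist fields and integer combinations for monomial certificates (helper12)

A variant of `factOfM` with twist fields of `tb` bits, and the lemma that an integer combination of
relation vectors is again a relation.
-/

namespace Cfsg.Agent.Lib.H12.J3M

open Cfsg.Agent.Lib.H17.CosetCert (force force_eq BT)
open Cfsg.Agent.Lib.H17.MonoCert

/-- decode `k` twist fields of `tb` bits (`TW = 2 ^ tb`), biased by `off` -/
noncomputable def decTwW (tb TW off : ℕ) (k : ℕ) : ℕ → List ℤ :=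
  Nat.rec (motive := fun _ => ℕ → List ℤ) (fun _ => [])
    (fun _ ih tt => Int.subNatNat (Nat.mod tt TW) off :: ih (Nat.shiftRight tt tb)) k

/-- facts `((a, x, b), t)` packed `K` to a leaf, each `wd` bits wide: `a` in the low `nb` bits, then
`b`, then `x` (3 bits), then `k` twist fields of `tb` bits. `W = 2 ^ wd`, `N = 2 ^ nb`. -/
noncomputable def factOfW (t : BT) (h0 K wd W nb N k tb TW off : ℕ) (f : ℕ) :
    (ℕ × ℕ × ℕ) × List ℤ :=
  force (BT.get t h0 (Nat.div f K)) fun leaf =>
  force (Nat.mod (Nat.shiftRight leaf (Nat.mul wd (Nat.mod f K))) W) fun e =>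
  force (Nat.shiftRight e (Nat.add (Nat.mul 2 nb) 3)) fun tt =>
  ((Nat.mod e N, Nat.mod (Nat.shiftRight e (Nat.mul 2 nb)) 8, Nat.mod (Nat.shiftRight e nb) N),
    decTwW tb TW off k tt)

/-- multiply an integer vector by a scalar -/
noncomputable def lsmul (c : ℤ) : List ℤ → List ℤ :=
  List.rec (motive := fun _ => List ℤ) [] (fun a _ ih => Int.mul c a :: ih)

theorem lsmul_nil (c : ℤ) : lsmul c [] = [] := rfl

theorem lsmul_cons (c a : ℤ) (v : List ℤ) : lsmul c (a :: v) = (c * a) :: lsmul c v := rfl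

/-- integer combination of vectors -/
noncomputable def lcomb : List ℤ → List (List ℤ) → List ℤ :=
  List.rec (motive := fun _ => List (List ℤ) → List ℤ) (fun _ => [])
    (fun c _ ih vs => List.rec (motive := fun _ => List ℤ) [] (fun v vs' _ => ladd (lsmul c v) (ih vs')) vs)

theorem lcomb_nil_left (vs : List (List ℤ)) : lcomb [] vs = [] := rfl

theorem lcomb_nil_right (cs : List ℤ) : lcomb cs [] = [] := by
  cases cs <;> rfl

theorem lcomb_cons (c : ℤ) (cs : List ℤ) (v : List ℤ) (vs : List (List ℤ)) :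
    lcomb (c :: cs) (v :: vs) = ladd (lsmul c v) (lcomb cs vs) := rfl

theorem ltw_lsmul {A : Type*} [CommGroup A] (ζs : List A) (c : ℤ) (v : List ℤ) :
    ltw ζs (lsmul c v) = ltw ζs v ^ c := by
  induction ζs generalizing v with
  | nil => simp [ltw]
  | cons ζ ζs ih =>
    cases v with
    | nil => rw [lsmul_nil, ltw_nil_right, one_zpow]
    | cons a v =>
      rw [lsmul_cons]
      change ζ ^ (c * a) * ltw ζs (lsmul c v) = (ζ ^ a * ltw ζs v) ^ c
      rw [ih, mul_zpow, ← zpow_mul, mul_comm c a]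

theorem ltw_lcomb {A : Type*} [CommGroup A] (ζs : List A) (vs : List (List ℤ))
    (h : ∀ v ∈ vs, ltw ζs v = 1) (cs : List ℤ) : ltw ζs (lcomb cs vs) = 1 := by
  induction cs generalizing vs with
  | nil => rw [lcomb_nil_left, ltw_nil_right]
  | cons c cs ih =>
    cases vs with
    | nil => rw [lcomb_nil_right, ltw_nil_right]
    | cons v vs =>
      rw [lcomb_cons, ltw_add, ltw_lsmul, h v (List.mem_cons_self ..), one_zpow, one_mul]
      exact ih vs (fun w hw => h w (List.mem_cons_of_mem _ hw))

/-- if a multiple of a vector is a combination of relations, the twist has finite order -/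
theorem ltw_pow_of_lcomb {A : Type*} [CommGroup A] (ζs : List A) (vs : List (List ℤ))
    (h : ∀ v ∈ vs, ltw ζs v = 1) (cs : List ℤ) (n : ℤ) (b : List ℤ)
    (hb : lsmul n b = lcomb cs vs) : ltw ζs b ^ n = 1 := by
  rw [← ltw_lsmul, hb]
  exact ltw_lcomb ζs vs h cs

/-- if `e - a • b` is a combination of relations, the twist of `e` is a power of the twist of `b` -/
theorem ltw_eq_pow_of_lcomb {A : Type*} [CommGroup A] (ζs : List A) (vs : List (List ℤ))
    (h : ∀ v ∈ vs, ltw ζs v = 1) (cs : List ℤ) (a : ℤ) (e b : List ℤ)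
    (hb : ladd e (lsmul (-a) b) = lcomb cs vs) : ltw ζs e = ltw ζs b ^ a := by
  have h1 := ltw_lcomb ζs vs h cs
  rw [← hb, ltw_add, ltw_lsmul, zpow_neg] at h1
  exact mul_inv_eq_one.mp h1

end Cfsg.Agent.Lib.H12.J3M
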