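import Cfsg.Agent.Lib.H12.J3M.GlueBase
import Cfsg.Agent.Lib.H12.J3M.S2.Run
import Cfsg.Agent.Lib.H12.J3M.S2.Lists

set_option autoImplicit false
set_option maxRecDepth 100000

/-!
# Stage 2: the monomial certificate of `J3 = ⟨a, b, c⟩` over `L2(16) = ⟨a, b⟩` (helper12)

`Setting2 ga gb gc A`: the exact relators hold for `ga gb gc`, all other relators have values in the
central subgroup `A`, which meets `⟨ga, gb⟩` trivially, and `ga gb gc` generate.  Conclusion: there is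
`g ∈ A` with `g ^ 57 = 1` such that `⟨ga, gb⟩` has at most `12312 * orderOf g` cosets.
-/

namespace Cfsg.Agent.Lib.H12.J3M

open Cfsg.Agent.Lib.H17.CosetCert (WT act)
open Cfsg.Agent.Lib.H17.MonoCert

section

variable {Γ : Type*} [Group Γ] (ga gb gc : Γ)

/-- the hypotheses on the group -/
structure Setting2 (A : Subgroup Γ) : Prop where
  central : A ≤ Subgroup.center Γ
  disj : ∀ x ∈ Subgroup.closure {ga, gb}, x ∈ A → x = 1
  exact : ∀ w ∈ S2.exactL, wv3 ga gb gc w = 1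
  rel : ∀ w ∈ S2.symL ++ S2.cenL, wv3 ga gb gc w ∈ A
  gen : Subgroup.closure {ga, gb, gc} = ⊤

theorem wv3_pair : ∀ w ∈ S2.pairL, wv3 ga gb gc w = 1 := by
  intro w hw
  simp only [S2.pairL, List.mem_cons, List.not_mem_nil, or_false] at hw
  rcases hw with rfl | rfl | rfl | rfl | rfl | rfl <;> simp [wv3, gl3]

variable {ga gb gc}

theorem Setting2.rel_all {A : Subgroup Γ} (S : Setting2 ga gb gc A) :
    ∀ w ∈ S2.relL, wv3 ga gb gc w ∈ A := by
  intro w hw
  rcases S2.rel_cases w hw with h | h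
  · rcases List.mem_append.mp h with h1 | h1
    · rw [S.exact w h1]; exact one_mem _
    · rw [wv3_pair ga gb gc w h1]; exact one_mem _
  · exact S.rel w h

end

section main

variable {Γ : Type*} [Group Γ] {ga gb gc : Γ} {A : Subgroup Γ}

open Classical in
/-- the inverse of the value of a word, as an element of `A` (`1` if the value is not in `A`) -/
noncomputable def ρA2 (ga gb gc : Γ) (A : Subgroup Γ) (w : List ℕ) : A :=
  if h : wv3 ga gb gc w ∈ A then ⟨(wv3 ga gb gc w)⁻¹, A.inv_mem h⟩ else 1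

theorem ρA2_coe (w : List ℕ) (h : wv3 ga gb gc w ∈ A) :
    ((ρA2 ga gb gc A w : A) : Γ) = (wv3 ga gb gc w)⁻¹ := by
  unfold ρA2
  rw [dif_pos h]

theorem gens_top2 (S : Setting2 ga gb gc A) :
    Subgroup.closure {g : Γ | ∃ x < 6, g = (gl3 ga gb gc x)⁻¹} = ⊤ := by
  rw [eq_top_iff, ← S.gen, Subgroup.closure_le]
  intro g hg
  simp only [Set.mem_insert_iff, Set.mem_singleton_iff] at hg
  apply Subgroup.subset_closure
  rcases hg with rfl | rfl | rfl
  · exact ⟨1, by norm_num, by simp [gl3]⟩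
  · exact ⟨3, by norm_num, by simp [gl3]⟩
  · exact ⟨5, by norm_num, by simp [gl3]⟩

theorem letters_inv2 : ∀ x < 6, ∃ y < 6, (gl3 ga gb gc y)⁻¹ = ((gl3 ga gb gc x)⁻¹)⁻¹ := by
  intro x hx
  interval_cases x
  · exact ⟨1, by norm_num, by simp [gl3]⟩
  · exact ⟨0, by norm_num, by simp [gl3]⟩
  · exact ⟨3, by norm_num, by simp [gl3]⟩
  · exact ⟨2, by norm_num, by simp [gl3]⟩
  · exact ⟨5, by norm_num, by simp [gl3]⟩
  · exact ⟨4, by norm_num, by simp [gl3]⟩

/-- the list of the symbol values -/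
noncomputable def ζs2 (ga gb gc : Γ) (A : Subgroup Γ) : List A := S2.symL.map (ρA2 ga gb gc A)

theorem wordsOK2 (S : Setting2 ga gb gc A) :
    letI := commGroupOfCentral A S.central
    haveI := smulComm_of_central A (Subgroup.closure {ga, gb}) S.central
    WordsOK S2.Ev (ltw (ζs2 ga gb gc A)) (fun x => (gl3 ga gb gc x)⁻¹)
      (((1 : Γ) : Γ ⧸ Subgroup.closure {ga, gb})) S2.words 250 := by
  let _ := commGroupOfCentral A S.central
  intro w wd r hget
  have hm := WT.get_mem S2.words w (wd, r) hget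
  obtain ⟨h1, h2⟩ := S2.words_mem _ hm
  refine ⟨fun hr => ?_, fun hr hw => ?_, fun hr => ?_⟩
  · have hA := S.rel_all wd (h1 hr)
    refine ⟨⟨(wv3 ga gb gc wd)⁻¹, A.inv_mem hA⟩, fun q => ?_⟩
    rw [act_inv]
    rfl
  · subst hr
    have hs := S2.seed_mem w hw
    unfold S2.seedChk at hs
    rw [hget] at hs
    simp only [decide_eq_true_eq] at hs
    intro q
    rw [act_inv]
    rcases S2.seed_cases _ hs with ⟨he, hmem⟩ | hz
    · simp only [] at he hmem
      have hv : wv3 ga gb gc wd = 1 := by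
        rcases List.mem_append.mp hmem with h | h
        · exact S.exact wd h
        · exact wv3_pair ga gb gc wd h
      change (wv3 ga gb gc wd)⁻¹ • q = _
      rw [hv, he, ltw_replicate_zero, inv_one, one_smul, one_smul]
    · simp only [S2.symL, S2.unitL, List.zip_cons_cons, List.zip_nil_right, List.mem_cons,
        Prod.mk.injEq, List.not_mem_nil, or_false] at hz
      have key : ∀ wd' (hwd : wd' ∈ S2.symL ++ S2.cenL) (e : List ℤ),
          ltw (ζs2 ga gb gc A) e = ρA2 ga gb gc A wd' → wd = wd' → S2.Ev w = e →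
          ((List.map (gl3 ga gb gc) wd).prod)⁻¹ • q = ltw (ζs2 ga gb gc A) (S2.Ev w) • q := by
        intro wd' hwd e he hw1 hw2
        rw [hw2, he, hw1]
        change _ = ((ρA2 ga gb gc A wd' : A) : Γ) • q
        rw [ρA2_coe wd' (S.rel wd' hwd)]
        rfl
      rcases hz with ⟨a, b⟩ | ⟨a, b⟩ | ⟨a, b⟩ | ⟨a, b⟩ | ⟨a, b⟩ | ⟨a, b⟩ | ⟨a, b⟩ | ⟨a, b⟩
      · exact key _ (by decide) _ (by simp [ζs2, S2.symL, ltw]) a b
      · exact key _ (by decide) _ (by simp [ζs2, S2.symL, ltw]) a b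
      · exact key _ (by decide) _ (by simp [ζs2, S2.symL, ltw]) a b
      · exact key _ (by decide) _ (by simp [ζs2, S2.symL, ltw]) a b
      · exact key _ (by decide) _ (by simp [ζs2, S2.symL, ltw]) a b
      · exact key _ (by decide) _ (by simp [ζs2, S2.symL, ltw]) a b
      · exact key _ (by decide) _ (by simp [ζs2, S2.symL, ltw]) a b
      · exact key _ (by decide) _ (by simp [ζs2, S2.symL, ltw]) a b
  · have hsub := h2 hr
    rw [act_inv]
    have hmem : (List.map (gl3 ga gb gc) wd).prod ∈ Subgroup.closure {ga, gb} := by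
      simp only [S2.subL, List.mem_cons, List.not_mem_nil, or_false] at hsub
      rcases hsub with rfl | rfl
      · simp only [List.map_cons, List.map_nil, List.prod_cons, List.prod_nil, mul_one, gl3]
        exact Subgroup.subset_closure (by simp)
      · simp only [List.map_cons, List.map_nil, List.prod_cons, List.prod_nil, mul_one, gl3]
        exact Subgroup.subset_closure (by simp)
    rw [MulAction.Quotient.smul_mk, QuotientGroup.eq]
    simpa using hmem

end main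

section final

variable {Γ : Type*} [Group Γ] {ga gb gc : Γ} {A : Subgroup Γ}

/-- **Main theorem of the stage 2 certificate.** -/
theorem mono_main2 (S : Setting2 ga gb gc A) :
    ∃ g : Γ, g ∈ A ∧ g ^ 57 = 1 ∧ Finite (Γ ⧸ Subgroup.closure {ga, gb}) ∧
      Nat.card (Γ ⧸ Subgroup.closure {ga, gb}) ≤ 12312 * orderOf g := by
  let _ := commGroupOfCentral A S.central
  have := smulComm_of_central A (Subgroup.closure {ga, gb}) S.central
  set Q := Γ ⧸ Subgroup.closure {ga, gb} with hQ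
  set q0 : Q := ((1 : Γ) : Q) with hq0
  set tw : List ℤ → A := ltw (ζs2 ga gb gc A) with htw_def
  set γ : ℕ → Γ := fun x => (gl3 ga gb gc x)⁻¹ with hγ
  have htw : TwOK ladd (List.replicate 8 0) leq tw := ltw_ok _ 8
  have hfree : ∀ (α β : A) (q : Q), α • q = β • q → α = β :=
    free_of_disj A (Subgroup.closure {ga, gb}) S.central S.disj
  have hw := wordsOK2 S
  have hI := S2.run tw γ hfree htw q0 hw
  obtain ⟨c, hc0, hwords, hcov⟩ := covered S2.F S2.Ev 6 131072 tw γ q0 S2.words 73872 12312 280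
    hI S2.rows S2.rows_ok S2.rows_length (gens_top2 S) letters_inv2
  -- the relations
  have hrel : ∀ p ∈ S2.relPairs, tw p.2.2 = 1 := by
    intro p hp
    have hchk := S2.rel_chk p hp
    unfold S2.relChk at hchk
    rcases h1 : WT.get S2.words p.1 with _ | ⟨wd1, r1⟩
    · rw [h1] at hchk; exact absurd hchk (by simp)
    · rcases h2 : WT.get S2.words p.2.1 with _ | ⟨wd2, r2⟩
      · rw [h1, h2] at hchk
        cases r1 <;> exact absurd hchk (by simp)
      · rw [h1, h2] at hchk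
        cases r1 with
        | false => exact absurd hchk (by simp)
        | true =>
          cases r2 with
          | false => exact absurd hchk (by simp)
          | true =>
            simp only [Bool.and_eq_true, decide_eq_true_eq] at hchk
            obtain ⟨⟨⟨hwd, hev⟩, hlt1⟩, hlt2⟩ := hchk
            subst hwd
            have e1 := hwords p.1 hlt1 wd1 h1 q0
            have e2 := hwords p.2.1 hlt2 wd1 h2 q0
            have e3 : tw (S2.Ev p.1) = tw (S2.Ev p.2.1) := hfree _ _ q0 (e1.symm.trans e2)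
            rw [hev, htw.add] at e3
            exact (mul_eq_left.mp e3.symm)
  have hR : ∀ v ∈ S2.relV, tw v = 1 := by
    intro v hv
    rw [← S2.relV_eq] at hv
    obtain ⟨p, hp, rfl⟩ := List.mem_map.mp hv
    exact hrel p hp
  have hζ : ζs2 ga gb gc A = [ρA2 ga gb gc A [4, 0, 4, 0, 4, 0],
      ρA2 ga gb gc A [4, 3, 0, 3, 0, 2, 0, 3, 0, 2, 0, 5, 3, 0, 2, 0, 3, 0, 2, 0, 2, 0],
      ρA2 ga gb gc A [4, 2, 5, 3, 0, 2, 0, 2, 0, 3, 0, 2, 0, 2, 0, 2, 0, 2],
      ρA2 ga gb gc A [4, 0, 3, 0, 3, 0, 3, 0, 3, 0, 2, 0, 2, 0, 2, 0, 5, 3, 0, 2, 0, 3, 0, 2, 0, 3, 0],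
      ρA2 ga gb gc A [4, 0, 2, 0, 3, 0, 3, 0, 3, 4, 0, 2, 0, 3, 0, 3, 0, 3, 4, 0, 2, 0, 3, 0, 3, 0, 3],
      ρA2 ga gb gc A [4, 0, 4, 0, 2, 0, 3, 0, 2, 0, 3, 0, 3, 4, 0, 4, 0, 2, 0, 3, 0, 2, 0, 3, 0, 3],
      ρA2 ga gb gc A [4, 0, 3, 0, 4, 0, 2, 0, 2, 0, 4, 3, 0, 3, 0, 2, 0, 3, 4, 2, 0, 3, 0, 2],
      ρA2 ga gb gc A [4, 0, 2, 0, 3, 4, 0, 3, 0, 3, 0, 3, 0, 4, 0, 3, 0, 3, 0, 3, 4, 2, 0, 3, 0, 3, 0, 2, 0, 3, 0, 2, 0, 3, 0, 2, 0, 3, 0]] := rfl
  set g : A := ρA2 ga gb gc A [4, 0, 2, 0, 3, 4, 0, 3, 0, 3, 0, 3, 0, 4, 0, 3, 0, 3, 0, 3, 4, 2, 0, 3, 0, 3, 0, 2, 0, 3, 0, 2, 0, 3, 0, 2, 0, 3, 0] with hg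
  have g57 := ltw_pow_of_lcomb (ζs2 ga gb gc A) S2.relV hR _ _ _ S2.gen_cert
  have s0 := ltw_eq_pow_of_lcomb (ζs2 ga gb gc A) S2.relV hR _ (15 : ℤ) _ _ S2.sym_cert0
  have s1 := ltw_eq_pow_of_lcomb (ζs2 ga gb gc A) S2.relV hR _ (0 : ℤ) _ _ S2.sym_cert1
  have s2 := ltw_eq_pow_of_lcomb (ζs2 ga gb gc A) S2.relV hR _ (0 : ℤ) _ _ S2.sym_cert2
  have s3 := ltw_eq_pow_of_lcomb (ζs2 ga gb gc A) S2.relV hR _ (0 : ℤ) _ _ S2.sym_cert3
  have s4 := ltw_eq_pow_of_lcomb (ζs2 ga gb gc A) S2.relV hR _ (15 : ℤ) _ _ S2.sym_cert4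
  have s5 := ltw_eq_pow_of_lcomb (ζs2 ga gb gc A) S2.relV hR _ (1 : ℤ) _ _ S2.sym_cert5
  have s6 := ltw_eq_pow_of_lcomb (ζs2 ga gb gc A) S2.relV hR _ (1 : ℤ) _ _ S2.sym_cert6
  rw [hζ] at g57 s0 s1 s2 s3 s4 s5 s6
  have hg57 : g ^ 57 = 1 := by
    have e : g ^ ((57 : ℕ) : ℤ) = 1 := by
      convert g57 using 2
      · simp [hg, ltw]
      · rfl
    rwa [zpow_natCast] at e
  have hall : ∀ a ∈ ζs2 ga gb gc A, a ∈ Subgroup.zpowers g := by
    intro a ha
    rw [hζ] at ha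
    simp only [List.mem_cons, List.not_mem_nil, or_false] at ha
    rcases ha with rfl | rfl | rfl | rfl | rfl | rfl | rfl | rfl
    · have e : ρA2 ga gb gc A [4, 0, 4, 0, 4, 0] = g ^ (15 : ℤ) := by
        convert s0 using 1
        · simp [ltw]
        · congr 1
          simp [hg, ltw]
      rw [e]; exact Subgroup.zpow_mem_zpowers _ _
    · have e : ρA2 ga gb gc A [4, 3, 0, 3, 0, 2, 0, 3, 0, 2, 0, 5, 3, 0, 2, 0, 3, 0, 2, 0, 2, 0] = g ^ (0 : ℤ) := by
        convert s1 using 1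
        · simp [ltw]
        · congr 1
          simp [hg, ltw]
      rw [e]; exact Subgroup.zpow_mem_zpowers _ _
    · have e : ρA2 ga gb gc A [4, 2, 5, 3, 0, 2, 0, 2, 0, 3, 0, 2, 0, 2, 0, 2, 0, 2] = g ^ (0 : ℤ) := by
        convert s2 using 1
        · simp [ltw]
        · congr 1
          simp [hg, ltw]
      rw [e]; exact Subgroup.zpow_mem_zpowers _ _
    · have e : ρA2 ga gb gc A [4, 0, 3, 0, 3, 0, 3, 0, 3, 0, 2, 0, 2, 0, 2, 0, 5, 3, 0, 2, 0, 3, 0, 2, 0, 3, 0] = g ^ (0 : ℤ) := by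
        convert s3 using 1
        · simp [ltw]
        · congr 1
          simp [hg, ltw]
      rw [e]; exact Subgroup.zpow_mem_zpowers _ _
    · have e : ρA2 ga gb gc A [4, 0, 2, 0, 3, 0, 3, 0, 3, 4, 0, 2, 0, 3, 0, 3, 0, 3, 4, 0, 2, 0, 3, 0, 3, 0, 3] = g ^ (15 : ℤ) := by
        convert s4 using 1
        · simp [ltw]
        · congr 1
          simp [hg, ltw]
      rw [e]; exact Subgroup.zpow_mem_zpowers _ _
    · have e : ρA2 ga gb gc A [4, 0, 4, 0, 2, 0, 3, 0, 2, 0, 3, 0, 3, 4, 0, 4, 0, 2, 0, 3, 0, 2, 0, 3, 0, 3] = g ^ (1 : ℤ) := by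
        convert s5 using 1
        · simp [ltw]
        · congr 1
          simp [hg, ltw]
      rw [e]; exact Subgroup.zpow_mem_zpowers _ _
    · have e : ρA2 ga gb gc A [4, 0, 3, 0, 4, 0, 2, 0, 2, 0, 4, 3, 0, 3, 0, 2, 0, 3, 4, 2, 0, 3, 0, 2] = g ^ (1 : ℤ) := by
        convert s6 using 1
        · simp [ltw]
        · congr 1
          simp [hg, ltw]
      rw [e]; exact Subgroup.zpow_mem_zpowers _ _
    · exact Subgroup.mem_zpowers _
  have hpow : ∀ a ∈ Subgroup.closure (Set.range tw), a ∈ Subgroup.zpowers g := by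
    intro a ha
    have hle : Subgroup.closure (Set.range tw) ≤ Subgroup.zpowers g := by
      rw [Subgroup.closure_le]
      rintro _ ⟨t, rfl⟩
      exact ltw_mem_zpowers _ g hall t
    exact hle ha
  have hord : orderOf g ∣ 57 := orderOf_dvd_of_pow_eq_one hg57
  have hopos : 0 < orderOf g := Nat.pos_of_dvd_of_pos hord (by norm_num)
  have hoeq : orderOf (g : Γ) = orderOf g := Subgroup.orderOf_coe g
  let f : Fin 12312 × Fin (orderOf g) → Q := fun p => (g ^ (p.2 : ℕ)) • c p.1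
  have hf : Function.Surjective f := by
    intro q
    obtain ⟨i, hi, α, hα, rfl⟩ := hcov q
    obtain ⟨k, rfl⟩ := Subgroup.mem_zpowers_iff.mp (hpow α hα)
    refine ⟨(⟨i, hi⟩, ⟨(k % (orderOf g : ℤ)).toNat, ?_⟩), ?_⟩
    · have h1 : 0 ≤ k % (orderOf g : ℤ) := Int.emod_nonneg _ (by exact_mod_cast hopos.ne')
      have h2 : k % (orderOf g : ℤ) < orderOf g := Int.emod_lt_of_pos _ (by exact_mod_cast hopos)
      omega
    · have h1 : 0 ≤ k % (orderOf g : ℤ) := Int.emod_nonneg _ (by exact_mod_cast hopos.ne')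
      change g ^ ((k % (orderOf g : ℤ)).toNat) • c i = g ^ k • c i
      rw [← zpow_natCast, Int.toNat_of_nonneg h1, zpow_mod_orderOf]
  refine ⟨(g : Γ), g.2, ?_, Finite.of_surjective f hf, ?_⟩
  · rw [← Subgroup.coe_pow, hg57]; rfl
  · have := Nat.card_le_card_of_surjective f hf
    rw [Nat.card_prod, Nat.card_fin, Nat.card_fin] at this
    rw [hoeq]
    exact this

end final

end Cfsg.Agent.Lib.H12.J3M
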