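import Cfsg.Agent.Lib.H12.J3M.MonoWide

set_option autoImplicit false

/-!
# Generic glue lemmas for the monomial certificates of `J3` (helper12)
-/

namespace Cfsg.Agent.Lib.H12.J3M

open Cfsg.Agent.Lib.H17.CosetCert (WT act)
open Cfsg.Agent.Lib.H17.MonoCert

section letters

variable {Γ : Type*} [Group Γ]

/-- the letters on two generators -/
def gl2 (ga gb : Γ) (x : ℕ) : Γ :=
  match x with
  | 0 => ga | 1 => ga⁻¹ | 2 => gb | 3 => gb⁻¹ | _ => 1

/-- the value of a word on two generators -/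
def wv2 (ga gb : Γ) (w : List ℕ) : Γ := (w.map (gl2 ga gb)).prod

/-- the letters on three generators -/
def gl3 (ga gb gc : Γ) (x : ℕ) : Γ :=
  match x with
  | 0 => ga | 1 => ga⁻¹ | 2 => gb | 3 => gb⁻¹ | 4 => gc | 5 => gc⁻¹ | _ => 1

/-- the value of a word on three generators -/
def wv3 (ga gb gc : Γ) (w : List ℕ) : Γ := (w.map (gl3 ga gb gc)).prod

theorem map_gl2 {G : Type*} [Group G] (σ : Γ →* G) (ga gb : Γ) (x : ℕ) :
    σ (gl2 ga gb x) = gl2 (σ ga) (σ gb) x := by
  unfold gl2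
  split <;> simp

theorem map_wv2 {G : Type*} [Group G] (σ : Γ →* G) (ga gb : Γ) (w : List ℕ) :
    σ (wv2 ga gb w) = wv2 (σ ga) (σ gb) w := by
  unfold wv2
  rw [map_list_prod, List.map_map]
  congr 1
  apply List.map_congr_left
  intro x _
  exact map_gl2 σ ga gb x

theorem map_gl3 {G : Type*} [Group G] (σ : Γ →* G) (ga gb gc : Γ) (x : ℕ) :
    σ (gl3 ga gb gc x) = gl3 (σ ga) (σ gb) (σ gc) x := by
  unfold gl3
  split <;> simp

theorem map_wv3 {G : Type*} [Group G] (σ : Γ →* G) (ga gb gc : Γ) (w : List ℕ) :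
    σ (wv3 ga gb gc w) = wv3 (σ ga) (σ gb) (σ gc) w := by
  unfold wv3
  rw [map_list_prod, List.map_map]
  congr 1
  apply List.map_congr_left
  intro x _
  exact map_gl3 σ ga gb gc x

theorem gl2_mem (ga gb : Γ) (x : ℕ) : gl2 ga gb x ∈ Subgroup.closure ({ga, gb} : Set Γ) := by
  have ha : ga ∈ Subgroup.closure ({ga, gb} : Set Γ) := Subgroup.subset_closure (by simp)
  have hb : gb ∈ Subgroup.closure ({ga, gb} : Set Γ) := Subgroup.subset_closure (by simp)
  unfold gl2
  split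
  · exact ha
  · exact inv_mem ha
  · exact hb
  · exact inv_mem hb
  · exact one_mem _

theorem wv2_mem (ga gb : Γ) (w : List ℕ) : wv2 ga gb w ∈ Subgroup.closure ({ga, gb} : Set Γ) := by
  unfold wv2
  apply Subgroup.list_prod_mem
  intro x hx
  obtain ⟨y, -, rfl⟩ := List.mem_map.mp hx
  exact gl2_mem ga gb y

/-- a word on three generators using only the first two -/
theorem wv3_eq_wv2 (ga gb gc : Γ) (w : List ℕ) (h : ∀ x ∈ w, x < 4) :
    wv3 ga gb gc w = wv2 ga gb w := by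
  unfold wv3 wv2
  congr 1
  apply List.map_congr_left
  intro x hx
  have := h x hx
  interval_cases x <;> rfl

theorem wv3_replicate (ga gb gc : Γ) (n : ℕ) : wv3 ga gb gc (List.replicate n 4) = gc ^ n := by
  unfold wv3
  rw [List.map_replicate, List.prod_replicate]
  rfl

theorem wv2_replicate0 (ga gb : Γ) (n : ℕ) : wv2 ga gb (List.replicate n 0) = ga ^ n := by
  unfold wv2
  rw [List.map_replicate, List.prod_replicate]
  rfl

theorem wv2_replicate2 (ga gb : Γ) (n : ℕ) : wv2 ga gb (List.replicate n 2) = gb ^ n := by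
  unfold wv2
  rw [List.map_replicate, List.prod_replicate]
  rfl

theorem act_inv {Q : Type*} [MulAction Γ Q] (g : ℕ → Γ) (u : List ℕ) (q : Q) :
    act (fun x => (g x)⁻¹) u q = ((u.map g).prod)⁻¹ • q := by
  induction u generalizing q with
  | nil => simp [act]
  | cons x u ih =>
    change act (fun x => (g x)⁻¹) u ((g x)⁻¹ • q) = _
    rw [ih, List.map_cons, List.prod_cons, mul_inv_rev, mul_smul]

/-- a central subgroup is commutative -/
@[reducible] def commGroupOfCentral (A : Subgroup Γ) (h : A ≤ Subgroup.center Γ) : CommGroup A :=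
  { (inferInstance : Group A) with
    mul_comm := fun a b => Subtype.ext (Subgroup.mem_center_iff.mp (h b.2) a) }

theorem smulComm_of_central (A H : Subgroup Γ) (h : A ≤ Subgroup.center Γ) :
    SMulCommClass Γ A (Γ ⧸ H) := by
  constructor
  intro x a q
  change x • ((a : Γ) • q) = (a : Γ) • (x • q)
  rw [← mul_smul, ← mul_smul, Subgroup.mem_center_iff.mp (h a.2) x]

theorem free_of_disj (A H : Subgroup Γ) (hc : A ≤ Subgroup.center Γ)
    (hd : ∀ x ∈ H, x ∈ A → x = 1) (α β : A) (q : Γ ⧸ H) (h : α • q = β • q) : α = β := by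
  induction q using Quotient.inductionOn' with
  | h x =>
    have h1 : (((α : Γ) * x : Γ) : Γ ⧸ H) = (((β : Γ) * x : Γ) : _) := h
    rw [QuotientGroup.eq] at h1
    have hcc : ((α : Γ) * x)⁻¹ * ((β : Γ) * x) = (α : Γ)⁻¹ * (β : Γ) := by
      have hcen : x⁻¹ * ((α : Γ)⁻¹ * (β : Γ)) = ((α : Γ)⁻¹ * (β : Γ)) * x⁻¹ :=
        Subgroup.mem_center_iff.mp (hc (A.mul_mem (A.inv_mem α.2) β.2)) x⁻¹
      calc ((α : Γ) * x)⁻¹ * ((β : Γ) * x) = (x⁻¹ * ((α : Γ)⁻¹ * (β : Γ))) * x := by group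
        _ = ((α : Γ)⁻¹ * (β : Γ)) * x⁻¹ * x := by rw [hcen]
        _ = (α : Γ)⁻¹ * (β : Γ) := by group
    rw [hcc] at h1
    have h2 := hd _ h1 (A.mul_mem (A.inv_mem α.2) β.2)
    apply Subtype.ext
    exact inv_mul_eq_one.mp h2

end letters

section misc

/-- two coprime exponents kill an element -/
theorem eq_one_of_pow_coprime {K : Type*} [Group K] (z : K) (m n : ℕ) (hm : z ^ m = 1) (hn : z ^ n = 1)
    (h : Nat.Coprime m n) : z = 1 := by
  have d1 := orderOf_dvd_of_pow_eq_one hm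
  have d2 := orderOf_dvd_of_pow_eq_one hn
  have := Nat.dvd_gcd d1 d2
  rw [h.gcd_eq_one, Nat.dvd_one] at this
  exact orderOf_eq_one_iff.1 this

/-- the gcd of two exponents kills an element -/
theorem pow_gcd_eq_one' {K : Type*} [Group K] (z : K) (m n : ℕ) (hm : z ^ m = 1) (hn : z ^ n = 1) :
    z ^ Nat.gcd m n = 1 := by
  have d1 := orderOf_dvd_of_pow_eq_one hm
  have d2 := orderOf_dvd_of_pow_eq_one hn
  exact orderOf_dvd_iff_pow_eq_one.mp (Nat.dvd_gcd d1 d2)

theorem ltw_eq_one_of_all_one {A : Type*} [CommGroup A] (ζs : List A) (h : ∀ a ∈ ζs, a = 1)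
    (t : List ℤ) : ltw ζs t = 1 := by
  have h1 := ltw_mem_closure ζs t
  have h2 : Subgroup.closure {a : A | a ∈ ζs} ≤ ⊥ := by
    rw [Subgroup.closure_le]
    intro a ha
    rw [h a ha]
    exact Subgroup.mem_bot.mpr rfl
  exact Subgroup.mem_bot.mp (h2 h1)

theorem ltw_mem_zpowers {A : Type*} [CommGroup A] (ζs : List A) (g : A)
    (h : ∀ a ∈ ζs, a ∈ Subgroup.zpowers g) (t : List ℤ) : ltw ζs t ∈ Subgroup.zpowers g := by
  have h1 := ltw_mem_closure ζs t
  have h2 : Subgroup.closure {a : A | a ∈ ζs} ≤ Subgroup.zpowers g := by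
    rw [Subgroup.closure_le]
    intro a ha
    exact h a ha
  exact h2 h1

end misc

end Cfsg.Agent.Lib.H12.J3M
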