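import Cfsg.Agent.Lib.H12.J3M.J3Side

set_option autoImplicit false
set_option maxRecDepth 100000

/-!
# The concrete group `3·J₃ / Z` has the `J3` data (helper12)
-/

namespace Cfsg.Agent.Lib.H12.J3M

open Cfsg.Agent.Lib.H3.J3 Cfsg.Agent.Lib.H3.DC Cfsg.Agent.Lib.H3.F4 Subgroup

theorem gl3_mem {Γ : Type*} [Group Γ] (a b c : Γ) (x : ℕ) :
    gl3 a b c x ∈ closure ({a, b, c} : Set Γ) := by
  have ha : a ∈ closure ({a, b, c} : Set Γ) := subset_closure (by simp)
  have hb : b ∈ closure ({a, b, c} : Set Γ) := subset_closure (by simp)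
  have hc : c ∈ closure ({a, b, c} : Set Γ) := subset_closure (by simp)
  unfold gl3
  split
  · exact ha
  · exact inv_mem ha
  · exact hb
  · exact inv_mem hb
  · exact hc
  · exact inv_mem hc
  · exact one_mem _

theorem wv3_mem {Γ : Type*} [Group Γ] (a b c : Γ) (w : List ℕ) :
    wv3 a b c w ∈ closure ({a, b, c} : Set Γ) := by
  unfold wv3
  apply Subgroup.list_prod_mem
  intro x hx
  obtain ⟨y, -, rfl⟩ := List.mem_map.mp hx
  exact gl3_mem a b c y

/-- a letter of helper3 whose product with a word in `a, b, c` is a scalar lies in `⟨a, b, c⟩` -/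
theorem mk_mem_of_scal (w : List ℕ) (g : GG) (hg : g ∈ TJ) (e : List ℕ) (he : model.code g = e)
    (h : scal (mulE (codeW3 w) e) = true) :
    (((⟨g, hg⟩ : TJ) : TJ) : G0) ∈ closure ({am, bm, cm} : Set G0) := by
  have h1 : (((wv3 tA tB tC w * ⟨g, hg⟩ : TJ) : TJ) : G0) = 1 := by
    apply mk_eq_one_of_scal
    rw [Subgroup.coe_mul, model.code_mul, coe_wv3, code_wv3]
    show scal (mulE (codeW3 w) (model.code g)) = true
    rw [he]
    exact h
  rw [QuotientGroup.mk_mul, ← wv3_G0] at h1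
  have h2 : (((⟨g, hg⟩ : TJ) : TJ) : G0) = (wv3 am bm cm w)⁻¹ := by
    rw [eq_inv_iff_mul_eq_one, mul_comm_of_eq_one h1] 
  rw [h2]
  exact inv_mem (wv3_mem am bm cm w)
where
  mul_comm_of_eq_one {K : Type} [Group K] {x y : K} (h : x * y = 1) : y * x = 1 := by
    have : y = x⁻¹ := (inv_eq_of_mul_eq_one_right h).symm
    rw [this, inv_mul_cancel]

theorem letter_mk_mem (k : ℕ) :
    (((⟨letter k, letter_mem k⟩ : TJ) : TJ) : G0) ∈ closure ({am, bm, cm} : Set G0) := by
  have hD := mk_mem_of_scal wDi gD gD_mem dE code_gD d_chk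
  have hB := mk_mem_of_scal wBi gB gB_mem bE code_gB b_chk
  have hC := mk_mem_of_scal wCi gC gC_mem cE code_gC cc_chk
  have hDi : (((⟨gD⁻¹, inv_mem gD_mem⟩ : TJ) : TJ) : G0) ∈ closure ({am, bm, cm} : Set G0) :=
    inv_mem hD
  have hBi : (((⟨gB⁻¹, inv_mem gB_mem⟩ : TJ) : TJ) : G0) ∈ closure ({am, bm, cm} : Set G0) :=
    inv_mem hB
  have key : ∀ (g : GG) (hg : g ∈ TJ), letter k = g →
      (((⟨g, hg⟩ : TJ) : TJ) : G0) ∈ closure ({am, bm, cm} : Set G0) →
      (((⟨letter k, letter_mem k⟩ : TJ) : TJ) : G0) ∈ closure ({am, bm, cm} : Set G0) := by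
    intro g hg e h
    subst e
    exact h
  have hk : letter k = gD ∨ letter k = gB ∨ letter k = gC ∨ letter k = gD⁻¹ ∨ letter k = gB⁻¹ := by
    unfold letter
    split_ifs <;> simp
  rcases hk with h | h | h | h | h
  · exact key _ gD_mem h hD
  · exact key _ gB_mem h hB
  · exact key _ gC_mem h hC
  · exact key _ (inv_mem gD_mem) h hDi
  · exact key _ (inv_mem gB_mem) h hBi

theorem wp_mk_mem (l : List ℕ) :
    (((⟨wp l, wp_mem l⟩ : TJ) : TJ) : G0) ∈ closure ({am, bm, cm} : Set G0) := by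
  induction l with
  | nil => exact one_mem _
  | cons k l ih =>
    have e : (⟨wp (k :: l), wp_mem (k :: l)⟩ : TJ) = ⟨letter k, letter_mem k⟩ * ⟨wp l, wp_mem l⟩ :=
      Subtype.ext (wp_cons k l)
    rw [e, QuotientGroup.mk_mul]
    exact mul_mem (letter_mk_mem k) ih

theorem gen_G0 : closure ({am, bm, cm} : Set G0) = ⊤ := by
  rw [eq_top_iff]
  intro y _
  obtain ⟨x, rfl⟩ := QuotientGroup.mk_surjective y
  have key : ∀ z (_ : z ∈ closure T19), ∀ hz : z ∈ TJ,
      (((⟨z, hz⟩ : TJ) : TJ) : G0) ∈ closure ({am, bm, cm} : Set G0) := by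
    intro z hz
    induction hz using Subgroup.closure_induction with
    | mem z hz =>
      intro hzT
      rcases hz with rfl | rfl | rfl | rfl | hz
      · exact wp_mk_mem _
      · exact wp_mk_mem _
      · exact wp_mk_mem _
      · exact wp_mk_mem _
      · rw [Set.mem_singleton_iff] at hz
        subst hz
        exact wp_mk_mem _
    | one => intro _; exact one_mem _
    | mul a b ha hb iha ihb =>
      intro _
      have haT : a ∈ TJ := by rw [TJ_eq_closure19]; exact ha
      have hbT : b ∈ TJ := by rw [TJ_eq_closure19]; exact hb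
      exact mul_mem (iha haT) (ihb hbT)
    | inv a ha iha =>
      intro _
      have haT : a ∈ TJ := by rw [TJ_eq_closure19]; exact ha
      exact inv_mem (iha haT)
  have hx : (x : GG) ∈ closure T19 := by rw [← TJ_eq_closure19]; exact x.2
  exact key x.1 hx x.2

theorem base_G0 : Base am bm cm where
  rel1 := fun w hw => by
    rw [wv2_uv am bm cm w]
    exact wv3_eq_one_of_scal _ (rel1_chk w hw)
  rel2 := fun w hw => wv3_eq_one_of_scal w (rel2_chk w hw)
  ha := by
    have h := wv3_eq_one_of_scal _ ha_chk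
    have e : wv3 am bm cm (1 :: wordA.flatMap sub2) = am⁻¹ * wv3 am bm cm (wordA.flatMap sub2) := by
      simp [wv3, gl3]
    rw [e, inv_mul_eq_one] at h
    rw [wv2_uv am bm cm wordA]
    exact h
  hb := by
    have h := wv3_eq_one_of_scal _ hb_chk
    have e : wv3 am bm cm (3 :: wordB.flatMap sub2) = bm⁻¹ * wv3 am bm cm (wordB.flatMap sub2) := by
      simp [wv3, gl3]
    rw [e, inv_mul_eq_one] at h
    rw [wv2_uv am bm cm wordB]
    exact h
  gen := gen_G0
  card := card_quot
  u_ne := by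
    have h := wv3_ne_one_of_scal _ u_chk
    have e : uOf am bm = wv3 am bm cm [0, 2, 0, 3] := gl2_uv am bm cm 0
    rw [e]; exact h
  v_ne := by
    have h := wv3_ne_one_of_scal _ v_chk
    have e : vOf am bm = wv3 am bm cm [0, 2, 0, 2, 0, 2] := gl2_uv am bm cm 2
    rw [e]; exact h
  c_ne := by
    have h := wv3_ne_one_of_scal _ c_chk
    simpa [wv3, gl3] using h

/-- **The upper bound for the concrete group.** -/
theorem stem_G0 {Γ : Type*} [Group Γ] [Finite Γ] (σ : Γ →* G0) (hσ : Cfsg.IsStemExtension σ) :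
    ∃ z : Γ, z ^ 3 = 1 ∧ σ.ker = zpowers z :=
  base_G0.stem σ hσ

end Cfsg.Agent.Lib.H12.J3M
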