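import Cfsg.Agent.Lib.H12.J3M.Glue1
import Cfsg.Agent.Lib.H12.J3M.Glue2
import Cfsg.Agent.Lib.H17.M22M.AbsTools

set_option autoImplicit false
set_option maxRecDepth 100000

/-!
# Finite stem extensions of a group with the `J3` data (helper12)

`Base am bm cm`: three generators of a group `G` of order `50232960` such that `um = am bm am bm⁻¹` and
`vm = (am bm)³` satisfy the relators of the stage 1 certificate, `am bm cm` satisfy the relators of the
stage 2 certificate, and `am bm` are the stated words in `um vm`.  Then the kernel of every finite stem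
extension of `G` is cyclic of order dividing `3`.
-/

namespace Cfsg.Agent.Lib.H12.J3M

open Subgroup

/-- the element of order 17 -/
def uOf {G : Type*} [Group G] (a b : G) : G := a * b * a * b⁻¹

/-- the element of order 5 -/
def vOf {G : Type*} [Group G] (a b : G) : G := (a * b) ^ 3

/-- the word of `a` in `u`, `v` -/
def wordA : List ℕ := [0, 0, 0, 0, 0, 2, 0, 0, 3, 1, 3]

/-- the word of `b` in `u`, `v` -/
def wordB : List ℕ := [1, 1, 3, 1, 2, 0, 3, 3, 1]

/-- the data on the group `G` -/
structure Base {G : Type*} [Group G] (am bm cm : G) : Prop where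
  rel1 : ∀ w ∈ S1.exactL ++ (S1.symL ++ S1.cenL), wv2 (uOf am bm) (vOf am bm) w = 1
  rel2 : ∀ w ∈ S2.exactL ++ (S2.symL ++ S2.cenL), wv3 am bm cm w = 1
  ha : am = wv2 (uOf am bm) (vOf am bm) wordA
  hb : bm = wv2 (uOf am bm) (vOf am bm) wordB
  gen : closure {am, bm, cm} = ⊤
  card : Nat.card G = 50232960
  u_ne : uOf am bm ≠ 1
  v_ne : vOf am bm ≠ 1
  c_ne : cm ≠ 1

theorem exact2_cases : ∀ w ∈ S2.exactL, (∀ x ∈ w, x < 4) ∨ w = List.replicate 19 4 := by
  decide +kernel

section

variable {G : Type*} [Group G] {am bm cm : G}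

theorem Base.finite (B : Base am bm cm) : Finite G :=
  Nat.finite_of_card_ne_zero (by rw [B.card]; norm_num)

theorem Base.u17 (B : Base am bm cm) : uOf am bm ^ 17 = 1 := by
  have h := B.rel1 (List.replicate 17 0) (by decide)
  rwa [wv2_replicate0] at h

theorem Base.v5 (B : Base am bm cm) : vOf am bm ^ 5 = 1 := by
  have h := B.rel1 (List.replicate 5 2) (by decide)
  rwa [wv2_replicate2] at h

theorem Base.c19 (B : Base am bm cm) : cm ^ 19 = 1 := by
  have h := B.rel2 (List.replicate 19 4) (by decide +kernel)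
  rwa [wv3_replicate] at h

theorem orderOf_eq_of_prime' {K : Type*} [Group K] {g : K} {p : ℕ} (hp : p.Prime) (h1 : g ^ p = 1)
    (h2 : g ≠ 1) : orderOf g = p := by
  have := orderOf_dvd_of_pow_eq_one h1
  rcases (Nat.dvd_prime hp).1 this with h | h
  · exact absurd (orderOf_eq_one_iff.1 h) h2
  · exact h

theorem Base.index_zpowers (B : Base am bm cm) {g : G} {p : ℕ} (hg : orderOf g = p) :
    (zpowers g).index * p = 50232960 := by
  have := Subgroup.index_mul_card (zpowers g)
  rw [Nat.card_zpowers, hg, B.card] at this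
  exact this

/-- the kernel of a finite stem extension has exponent dividing `31104 = 2^7 * 3^5` -/
theorem Base.ker_pow (B : Base am bm cm) {Γ : Type*} [Group Γ] [Finite Γ] (σ : Γ →* G)
    (hσ : Cfsg.IsStemExtension σ) : ∀ z ∈ σ.ker, z ^ 31104 = 1 := by
  intro z hz
  have h1 : z ^ 50232960 = 1 := by
    rw [← B.card]; exact Cfsg.Agent.Lib.H17.M22M.pow_card_eq_one σ hσ hz
  set w := z ^ 31104 with hw
  have hwk : w ∈ σ.ker := pow_mem hz _
  have hw1615 : w ^ 1615 = 1 := by rw [hw, ← pow_mul]; exact h1
  have i5 : (zpowers (vOf am bm)).index = 10046592 := by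
    have := B.index_zpowers (orderOf_eq_of_prime' (by norm_num : Nat.Prime 5) B.v5 B.v_ne)
    omega
  have i17 : (zpowers (uOf am bm)).index = 2954880 := by
    have := B.index_zpowers (orderOf_eq_of_prime' (by norm_num : Nat.Prime 17) B.u17 B.u_ne)
    omega
  have i19 : (zpowers cm).index = 2643840 := by
    have := B.index_zpowers (orderOf_eq_of_prime' (by norm_num : Nat.Prime 19) B.c19 B.c_ne)
    omega
  have h5 : w ^ 323 = 1 :=
    Cfsg.Agent.Lib.H28.StemTools.eq_one_of_cyclic σ hσ (vOf am bm) (pow_mem hwk 323) (n := 5)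
      (by rw [← pow_mul]; exact hw1615) (by rw [i5]; norm_num)
  have h17 : w ^ 95 = 1 :=
    Cfsg.Agent.Lib.H28.StemTools.eq_one_of_cyclic σ hσ (uOf am bm) (pow_mem hwk 95) (n := 17)
      (by rw [← pow_mul]; exact hw1615) (by rw [i17]; norm_num)
  have h19 : w ^ 85 = 1 :=
    Cfsg.Agent.Lib.H28.StemTools.eq_one_of_cyclic σ hσ cm (pow_mem hwk 85) (n := 19)
      (by rw [← pow_mul]; exact hw1615) (by rw [i19]; norm_num)
  have h19' : w ^ 19 = 1 := by
    have := pow_gcd_eq_one' w 323 95 h5 h17
    norm_num at this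
    exact this
  exact eq_one_of_pow_coprime w 19 85 h19' h19 (by norm_num)

end

section lift

variable {G : Type*} [Group G]

/-- a cyclic subgroup of prime order on which a homomorphism is nontrivial meets its kernel trivially -/
theorem zpowers_inf_ker {E : Type*} [Group E] (τ : E →* G) (a : E) (p : ℕ) (hp : p.Prime)
    (ha : a ^ p = 1) (hτ : τ a ≠ 1) : ∀ x ∈ closure ({a} : Set E), τ x = 1 → x = 1 := by
  intro x hx hx1
  rw [← zpowers_eq_closure] at hx
  obtain ⟨k, rfl⟩ := mem_zpowers_iff.mp hx
  have ho : orderOf (τ a) = p :=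
    orderOf_eq_of_prime' hp (by rw [← map_pow, ha, map_one]) hτ
  rw [map_zpow] at hx1
  have hd : (p : ℤ) ∣ k := by
    rw [← ho]
    exact orderOf_dvd_iff_zpow_eq_one.mpr hx1
  obtain ⟨m, rfl⟩ := hd
  rw [zpow_mul, zpow_natCast, ha, one_zpow]

end lift

section stem

variable {G : Type*} [Group G] {am bm cm : G}

/-- the subgroup generated by `am bm` has at least `4080` elements -/
theorem Base.card_U (B : Base am bm cm) : 4080 ≤ Nat.card (closure ({am, bm} : Set G)) := by
  have hfin := B.finite
  have S : Setting2 am bm cm (⊥ : Subgroup G) :=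
    { central := bot_le
      disj := fun x _ hx => Subgroup.mem_bot.mp hx
      exact := fun w hw => B.rel2 w (List.mem_append_left _ hw)
      rel := fun w hw => by rw [B.rel2 w (List.mem_append_right _ hw)]; exact one_mem _
      gen := B.gen }
  obtain ⟨g, hg, -, -, hq⟩ := mono_main2 S
  rw [Subgroup.mem_bot.mp hg, orderOf_one, mul_one] at hq
  have h1 := Subgroup.card_eq_card_quotient_mul_card_subgroup (closure ({am, bm} : Set G))
  rw [B.card] at h1
  by_contra hlt
  push_neg at hlt
  have : Nat.card (G ⧸ closure ({am, bm} : Set G)) * Nat.card (closure ({am, bm} : Set G)) ≤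
      12312 * 4079 := Nat.mul_le_mul hq (by omega)
  omega

theorem Base.closure_uv (B : Base am bm cm) :
    closure ({uOf am bm, vOf am bm} : Set G) = closure ({am, bm} : Set G) := by
  have ha : am ∈ closure ({am, bm} : Set G) := subset_closure (by simp)
  have hb : bm ∈ closure ({am, bm} : Set G) := subset_closure (by simp)
  apply le_antisymm
  · rw [closure_le]
    intro x hx
    simp only [Set.mem_insert_iff, Set.mem_singleton_iff] at hx
    rcases hx with rfl | rfl
    · exact mul_mem (mul_mem (mul_mem ha hb) ha) (inv_mem hb)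
    · exact pow_mem (mul_mem ha hb) 3
  · rw [closure_le]
    intro x hx
    simp only [Set.mem_insert_iff, Set.mem_singleton_iff] at hx
    have h1 := wv2_mem (uOf am bm) (vOf am bm) wordA
    have h2 := wv2_mem (uOf am bm) (vOf am bm) wordB
    rw [← B.ha] at h1
    rw [← B.hb] at h2
    rcases hx with h | h
    · rw [h]; exact h1
    · rw [h]; exact h2

/-- the kernel of a finite stem extension is cyclic of order dividing 3 -/
theorem Base.stem (B : Base am bm cm) {Γ : Type*} [Group Γ] [Finite Γ] (σ : Γ →* G)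
    (hσ : Cfsg.IsStemExtension σ) : ∃ z : Γ, z ^ 3 = 1 ∧ σ.ker = zpowers z := by
  have hN := B.ker_pow σ hσ
  obtain ⟨hs, hc, hd⟩ := hσ
  obtain ⟨u, hu, hu17⟩ := Cfsg.Agent.Lib.H17.M22M.exists_lift_pow σ hs hN
    (by norm_num : Nat.Coprime 17 31104) B.u17
  obtain ⟨v, hv, hv5⟩ := Cfsg.Agent.Lib.H17.M22M.exists_lift_pow σ hs hN
    (by norm_num : Nat.Coprime 5 31104) B.v5
  obtain ⟨c, hc', hc19⟩ := Cfsg.Agent.Lib.H17.M22M.exists_lift_pow σ hs hN
    (by norm_num : Nat.Coprime 19 31104) B.c19
  -- stage 1 inside `K0`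
  set K0 : Subgroup Γ := closure {u, v} with hK0
  have huK : u ∈ K0 := subset_closure (by simp)
  have hvK : v ∈ K0 := subset_closure (by simp)
  let τ : ↥K0 →* G := σ.comp K0.subtype
  let ga1 : ↥K0 := ⟨u, huK⟩
  let gb1 : ↥K0 := ⟨v, hvK⟩
  have hτa : τ ga1 = uOf am bm := hu
  have hτb : τ gb1 = vOf am bm := hv
  have hga17 : ga1 ^ 17 = 1 := Subtype.ext (by rw [Subgroup.coe_pow]; exact hu17)
  have hgb5 : gb1 ^ 5 = 1 := Subtype.ext (by rw [Subgroup.coe_pow]; exact hv5)
  have hkerc : ∀ x : ↥K0, τ x = 1 → x ∈ center ↥K0 := by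
    intro x hx
    have hx' : (x : Γ) ∈ σ.ker := hx
    rw [mem_center_iff]
    intro y
    apply Subtype.ext
    exact mem_center_iff.mp (hc hx') y
  have S1' : Setting1 ga1 gb1 (τ.ker ⊓ center ↥K0) :=
    { central := inf_le_right
      disj := fun x hx hxA =>
        zpowers_inf_ker τ ga1 17 (by norm_num) hga17 (by rw [hτa]; exact B.u_ne) x hx
          (MonoidHom.mem_ker.mp hxA.1)
      exact := by
        intro w hw
        simp only [S1.exactL, List.mem_cons, List.not_mem_nil, or_false] at hw
        rcases hw with rfl | rfl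
        · exact (wv2_replicate0 ga1 gb1 17).trans hga17
        · exact (wv2_replicate2 ga1 gb1 5).trans hgb5
      rel := by
        intro w hw
        have h1 : τ (wv2 ga1 gb1 w) = 1 := by
          rw [map_wv2, hτa, hτb]
          exact B.rel1 w (List.mem_append_right _ hw)
        exact ⟨MonoidHom.mem_ker.mpr h1, hkerc _ h1⟩
      gen := by
        have h := Subgroup.closure_closure_coe_preimage (k := ({u, v} : Set Γ))
        convert h using 2
        ext x
        simp only [Set.mem_insert_iff, Set.mem_singleton_iff, Set.mem_preimage]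
        constructor
        · rintro (rfl | rfl)
          · left; rfl
          · right; rfl
        · rintro (h | h)
          · left; exact Subtype.ext h
          · right; exact Subtype.ext h
      tors := by
        intro z hz
        apply Subtype.ext
        rw [Subgroup.coe_pow]
        exact hN _ (show (z : Γ) ∈ σ.ker from hz.1) }
  obtain ⟨hfinQ1, hq1⟩ := mono_main1 S1'
  have hcardK0 : Nat.card ↥K0 ≤ 4080 := by
    have h1 := Subgroup.card_eq_card_quotient_mul_card_subgroup (closure ({ga1} : Set ↥K0))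
    have h2 : Nat.card (closure ({ga1} : Set ↥K0)) ≤ 17 := by
      rw [← zpowers_eq_closure, Nat.card_zpowers]
      exact Nat.le_of_dvd (by norm_num) (orderOf_dvd_of_pow_eq_one hga17)
    calc Nat.card ↥K0 = _ := h1
      _ ≤ 240 * 17 := Nat.mul_le_mul hq1 h2
      _ = 4080 := by norm_num
  -- `σ` is injective on `K0`
  have hmap : K0.map σ = closure ({am, bm} : Set G) := by
    rw [hK0, MonoidHom.map_closure, Set.image_insert_eq, Set.image_singleton, hu, hv]
    exact B.closure_uv
  have hinj : ∀ x ∈ K0, σ x = 1 → x = 1 := by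
    have hfinG := B.finite
    have hsurj : Function.Surjective τ.rangeRestrict := MonoidHom.rangeRestrict_surjective _
    have hrange : τ.range = closure ({am, bm} : Set G) := by
      rw [MonoidHom.range_eq_map, ← Subgroup.map_map, ← MonoidHom.range_eq_map, Subgroup.range_subtype,
        hmap]
    have hcard : Nat.card ↥K0 ≤ Nat.card τ.range := by
      rw [hrange]
      exact le_trans hcardK0 B.card_U
    have hbij := Function.Surjective.bijective_of_nat_card_le hsurj hcard
    intro x hx hx1
    have h1 : τ.rangeRestrict ⟨x, hx⟩ = τ.rangeRestrict 1 := by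
      apply Subtype.ext
      rw [map_one]
      exact hx1
    exact congrArg Subtype.val (hbij.1 h1)
  -- the lifts of `am`, `bm`
  set a : Γ := wv2 u v wordA with ha_def
  set b : Γ := wv2 u v wordB with hb_def
  have haK : a ∈ K0 := wv2_mem u v wordA
  have hbK : b ∈ K0 := wv2_mem u v wordB
  have hσa : σ a = am := by rw [ha_def, map_wv2, hu, hv]; exact B.ha.symm
  have hσb : σ b = bm := by rw [hb_def, map_wv2, hu, hv]; exact B.hb.symm
  have hle : closure ({a, b} : Set Γ) ≤ K0 := by
    rw [closure_le]
    intro x hx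
    simp only [Set.mem_insert_iff, Set.mem_singleton_iff] at hx
    rcases hx with rfl | rfl
    · exact haK
    · exact hbK
  have S2' : Setting2 a b c σ.ker :=
    { central := hc
      disj := fun x hx hxA => hinj x (hle hx) (MonoidHom.mem_ker.mp hxA)
      exact := by
        intro w hw
        have hval : σ (wv3 a b c w) = 1 := by
          rw [map_wv3, hσa, hσb, hc']
          exact B.rel2 w (List.mem_append_left _ hw)
        rcases exact2_cases w hw with h | rfl
        · apply hinj _ _ hval
          rw [wv3_eq_wv2 a b c w h]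
          exact hle (wv2_mem a b w)
        · rw [wv3_replicate]; exact hc19
      rel := by
        intro w hw
        rw [MonoidHom.mem_ker, map_wv3, hσa, hσb, hc']
        exact B.rel2 w (List.mem_append_right _ hw)
      gen := Cfsg.Agent.Lib.H17.M22M.closure_lift_eq_top σ hc hd {a, b, c} (by
        rw [Set.image_insert_eq, Set.image_insert_eq, Set.image_singleton, hσa, hσb, hc']
        exact B.gen) }
  obtain ⟨g, hgk, hg57, hfinQ, hq⟩ := mono_main2 S2'
  have hg3 : g ^ 3 = 1 := by
    have := pow_gcd_eq_one' g 57 31104 hg57 (hN g hgk)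
    norm_num at this
    exact this
  refine ⟨g, hg3, ?_⟩
  -- counting
  have hH : Nat.card (closure ({a, b} : Set Γ)) ≤ 4080 :=
    le_trans (Subgroup.card_le_of_le hle) hcardK0
  have h1 : Nat.card Γ = Nat.card (Γ ⧸ closure ({a, b} : Set Γ)) * Nat.card (closure ({a, b} : Set Γ)) :=
    Subgroup.card_eq_card_quotient_mul_card_subgroup _
  have h2 : Nat.card Γ = Nat.card σ.ker * Nat.card G :=
    Cfsg.Agent.Lib.H28.StemTools.card_eq_card_ker_mul σ hs
  have h3 : Nat.card σ.ker * 50232960 ≤ orderOf g * 50232960 := by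
    calc Nat.card σ.ker * 50232960 = Nat.card Γ := by rw [h2, B.card]
      _ = _ := h1
      _ ≤ (12312 * orderOf g) * 4080 := Nat.mul_le_mul hq hH
      _ = orderOf g * 50232960 := by ring
  have h4 : Nat.card σ.ker ≤ orderOf g := Nat.le_of_mul_le_mul_right h3 (by norm_num)
  have hle' : zpowers g ≤ σ.ker := by rw [zpowers_le]; exact hgk
  symm
  apply Subgroup.eq_of_le_of_card_ge hle'
  rw [Nat.card_zpowers]
  exact h4

end stem

end Cfsg.Agent.Lib.H12.J3M
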