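import Cfsg.Agent.Lib.H3.J3Main3
import Cfsg.Agent.Lib.H12.J3M.Stem

set_option autoImplicit false
set_option maxRecDepth 100000

/-!
# The `J3` data for the concrete group `3·J₃ / Z` (helper12)

The generators `a, b, c` as words in helper3's letters, the evaluation of words by codes, and the
instance of `Base`.
-/

namespace Cfsg.Agent.Lib.H12.J3M

open Cfsg.Agent.Lib.H3.J3 Cfsg.Agent.Lib.H3.DC Cfsg.Agent.Lib.H3.F4 Subgroup

/-- the words of the generators and their inverses in helper3's letters -/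
def awJ : List ℕ := [1, 2]
def aiwJ : List ℕ := [2, 4]
def bwJ : List ℕ := [0, 1, 3, 2, 0, 1, 0]
def biwJ : List ℕ := [3, 4, 3, 2, 0, 4, 3]
def cwJ : List ℕ := [2, 4, 3, 4, 3, 1, 2, 0, 1, 3, 2, 0, 1, 0, 1, 2, 0, 1, 0, 1, 2, 1, 2]
def ciwJ : List ℕ := [2, 4, 2, 4, 3, 4, 3, 2, 4, 3, 4, 3, 2, 0, 4, 3, 2, 4, 0, 1, 0, 1, 2]

/-- their codes -/
def aE3 : List ℕ := [1, 2, 82176, 164352, 66816, 133632, 82944, 165888, 4116, 8232, 4176, 8352, 17664, 35328, 4164, 8328, 84, 168]
def aiE3 : List ℕ := [1, 2, 82176, 164352, 66816, 133632, 82944, 165888, 4116, 8232, 4176, 8352, 17664, 35328, 4164, 8328, 84, 168]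
def bE3 : List ℕ := [66563, 133121, 199684, 66568, 16, 32, 33088, 49792, 8832, 13248, 131085, 196614, 37120, 57856, 36928, 57472, 2061, 3078]
def biE3 : List ℕ := [66562, 133123, 133124, 199688, 16, 32, 17216, 33152, 4928, 8576, 196617, 65550, 21248, 41216, 61632, 20544, 3081, 1038]
def cE3 : List ℕ := [8313, 12446, 82176, 164352, 208760, 79260, 178188, 252932, 146127, 204613, 235856, 126624, 43528, 65292, 70934, 141867, 231764, 118440]
def ciE3 : List ℕ := [49665, 17154, 94899, 168913, 82978, 165939, 67089, 133922, 96036, 170296, 229344, 103792, 30387, 39889, 212164, 70728, 150500, 232824]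

theorem code_awJ : codeW awJ = aE3 := by decide +kernel
theorem code_aiwJ : codeW aiwJ = aiE3 := by decide +kernel
theorem code_bwJ : codeW bwJ = bE3 := by decide +kernel
theorem code_biwJ : codeW biwJ = biE3 := by decide +kernel
theorem code_cwJ : codeW cwJ = cE3 := by decide +kernel
theorem code_ciwJ : codeW ciwJ = ciE3 := by decide +kernel

/-- the generators in `GL₉(4)` -/
def gA : GG := wp awJ
def gB3 : GG := wp bwJ
def gC3 : GG := wp cwJ

theorem inv_of_code (l1 l2 : List ℕ) (h : codeW (l1 ++ l2) = oneE) : (wp l1)⁻¹ = wp l2 := by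
  rw [inv_eq_iff_mul_eq_one]
  apply model.code_inj
  rw [← wp_append, code_wp, model.code_one]
  exact h

theorem gA_inv : gA⁻¹ = wp aiwJ := inv_of_code awJ aiwJ (by decide +kernel)
theorem gB3_inv : gB3⁻¹ = wp biwJ := inv_of_code bwJ biwJ (by decide +kernel)
theorem gC3_inv : gC3⁻¹ = wp ciwJ := inv_of_code cwJ ciwJ (by decide +kernel)

/-- the codes of the letters `a, a⁻¹, b, b⁻¹, c, c⁻¹` -/
def lcode3 (x : ℕ) : List ℕ :=
  cond (Nat.beq x 0) aE3 (cond (Nat.beq x 1) aiE3 (cond (Nat.beq x 2) bE3 (cond (Nat.beq x 3) biE3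
    (cond (Nat.beq x 4) cE3 (cond (Nat.beq x 5) ciE3 oneE)))))

/-- the code of a word in `a, b, c` -/
def codeW3 : List ℕ → List ℕ
  | [] => oneE
  | x :: xs => mulE (lcode3 x) (codeW3 xs)

theorem code_gl3 (x : ℕ) : model.code (gl3 gA gB3 gC3 x) = lcode3 x := by
  match x with
  | 0 => exact (code_wp awJ).trans code_awJ
  | 1 => show model.code gA⁻¹ = _; rw [gA_inv]; exact (code_wp aiwJ).trans code_aiwJ
  | 2 => exact (code_wp bwJ).trans code_bwJ
  | 3 => show model.code gB3⁻¹ = _; rw [gB3_inv]; exact (code_wp biwJ).trans code_biwJ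
  | 4 => exact (code_wp cwJ).trans code_cwJ
  | 5 => show model.code gC3⁻¹ = _; rw [gC3_inv]; exact (code_wp ciwJ).trans code_ciwJ
  | n + 6 => exact model.code_one

theorem code_wv3 (w : List ℕ) : model.code (wv3 gA gB3 gC3 w) = codeW3 w := by
  induction w with
  | nil => exact model.code_one
  | cons x w ih =>
    have e : wv3 gA gB3 gC3 (x :: w) = gl3 gA gB3 gC3 x * wv3 gA gB3 gC3 w := by
      simp [wv3]
    rw [e, model.code_mul, code_gl3, ih]
    rfl

/-- the code of a scalar matrix of `3·J₃` -/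
def scal (c : List ℕ) : Bool := beqL c oneE || beqL c omE || beqL c om2E

/-- the generators in `3·J₃` -/
def tA : TJ := ⟨gA, wp_mem _⟩
def tB : TJ := ⟨gB3, wp_mem _⟩
def tC : TJ := ⟨gC3, wp_mem _⟩

/-- the concrete group -/
abbrev G0 : Type := TJ ⧸ center TJ

/-- the generators in `J₃` -/
def am : G0 := (tA : G0)
def bm : G0 := (tB : G0)
def cm : G0 := (tC : G0)

theorem mk_eq_one_of_scal (x : TJ) (h : scal (model.code (x : GG)) = true) : ((x : TJ) : G0) = 1 := by
  rw [QuotientGroup.eq_one_iff, center_eq]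
  unfold scal at h
  simp only [Bool.or_eq_true] at h
  rcases h with (h | h) | h
  · have : (x : GG) = 1 := model.code_inj ((eq_of_beqL _ _ h).trans model.code_one.symm)
    have hx : x = 1 := Subtype.ext this
    rw [hx]; exact one_mem _
  · have : (x : GG) = gOm := model.code_inj ((eq_of_beqL _ _ h).trans code_gOm.symm)
    have hx : x = zT := Subtype.ext this
    rw [hx]; exact mem_zpowers _
  · have : (x : GG) = gOm ^ 2 := model.code_inj ((eq_of_beqL _ _ h).trans code_gOm2.symm)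
    have hx : x = zT ^ 2 := Subtype.ext this
    rw [hx]; exact pow_mem (mem_zpowers _) 2

theorem scal_of_mk_eq_one (x : TJ) (h : ((x : TJ) : G0) = 1) : scal (model.code (x : GG)) = true := by
  rw [QuotientGroup.eq_one_iff, center_eq] at h
  obtain ⟨k, rfl⟩ := mem_zpowers_iff.mp h
  have h3 : zT ^ 3 = 1 := zT_cube
  have hk : zT ^ k = zT ^ (k % 3) := zpow_eq_zpow_emod' k h3
  have h0 : 0 ≤ k % 3 := Int.emod_nonneg _ (by norm_num)
  have h1 : k % 3 < 3 := Int.emod_lt_of_pos _ (by norm_num)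
  rw [hk]
  have hcases : k % 3 = 0 ∨ k % 3 = 1 ∨ k % 3 = 2 := by omega
  rcases hcases with e | e | e
  · rw [e, zpow_zero]
    have : model.code (((1 : TJ) : TJ) : GG) = oneE := model.code_one
    rw [this]; decide +kernel
  · rw [e, zpow_one]
    have : model.code ((zT : TJ) : GG) = omE := code_gOm
    rw [this]; decide +kernel
  · rw [e]
    have : model.code (((zT ^ (2 : ℤ) : TJ)) : GG) = om2E := code_gOm2
    rw [this]; decide +kernel

theorem wv3_G0 (w : List ℕ) : wv3 am bm cm w = ((wv3 tA tB tC w : TJ) : G0) :=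
  (map_wv3 (QuotientGroup.mk' (center TJ)) tA tB tC w).symm

theorem coe_wv3 (w : List ℕ) : ((wv3 tA tB tC w : TJ) : GG) = wv3 gA gB3 gC3 w :=
  map_wv3 TJ.subtype tA tB tC w

theorem wv3_eq_one_of_scal (w : List ℕ) (h : scal (codeW3 w) = true) : wv3 am bm cm w = 1 := by
  rw [wv3_G0]
  apply mk_eq_one_of_scal
  rw [coe_wv3, code_wv3]
  exact h

theorem wv3_ne_one_of_scal (w : List ℕ) (h : scal (codeW3 w) = false) : wv3 am bm cm w ≠ 1 := by
  intro h1
  rw [wv3_G0] at h1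
  have := scal_of_mk_eq_one _ h1
  rw [coe_wv3, code_wv3, h] at this
  exact absurd this (by simp)

/-- the words of `u, u⁻¹, v, v⁻¹` in `a, b` -/
def sub2 (x : ℕ) : List ℕ :=
  cond (Nat.beq x 0) [0, 2, 0, 3] (cond (Nat.beq x 1) [2, 1, 3, 1] (cond (Nat.beq x 2) [0, 2, 0, 2, 0, 2]
    (cond (Nat.beq x 3) [3, 1, 3, 1, 3, 1] [])))

theorem wv3_append {Γ : Type*} [Group Γ] (a b c : Γ) (w1 w2 : List ℕ) :
    wv3 a b c (w1 ++ w2) = wv3 a b c w1 * wv3 a b c w2 := by
  simp [wv3]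

theorem gl2_uv {Γ : Type*} [Group Γ] (a b c : Γ) (x : ℕ) :
    gl2 (uOf a b) (vOf a b) x = wv3 a b c (sub2 x) := by
  match x with
  | 0 =>
    show uOf a b = wv3 a b c [0, 2, 0, 3]
    simp [wv3, gl3, uOf, mul_assoc]
  | 1 =>
    show (uOf a b)⁻¹ = wv3 a b c [2, 1, 3, 1]
    simp [wv3, gl3, uOf, mul_assoc]
  | 2 =>
    show vOf a b = wv3 a b c [0, 2, 0, 2, 0, 2]
    simp [wv3, gl3, vOf, pow_succ, mul_assoc]
  | 3 =>
    show (vOf a b)⁻¹ = wv3 a b c [3, 1, 3, 1, 3, 1]
    simp [wv3, gl3, vOf, pow_succ, mul_assoc]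
  | n + 4 => rfl

theorem wv2_uv {Γ : Type*} [Group Γ] (a b c : Γ) (w : List ℕ) :
    wv2 (uOf a b) (vOf a b) w = wv3 a b c (w.flatMap sub2) := by
  induction w with
  | nil => rfl
  | cons x w ih =>
    have e : wv2 (uOf a b) (vOf a b) (x :: w) =
        gl2 (uOf a b) (vOf a b) x * wv2 (uOf a b) (vOf a b) w := by simp [wv2]
    rw [e, List.flatMap_cons, wv3_append, ih, gl2_uv a b c x]

/-- the words of the letters `D⁻¹, B⁻¹, C⁻¹` in `a, b, c` -/
def wDi : List ℕ := [4, 2, 5, 1, 4, 4, 1, 5, 1, 3, 1, 2, 1, 2, 1, 2, 1, 3, 1, 2, 1, 2, 1, 3, 1, 3, 1]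
def wBi : List ℕ := [1, 2, 1, 4, 2, 5, 2, 4, 2, 1, 2, 1, 3, 1, 3, 1, 2, 1, 2, 1, 3, 1, 2, 1, 3, 1]
def wCi : List ℕ := [1, 2, 1, 4, 2, 5, 2, 4, 2, 1, 2, 1, 3, 1, 3, 1, 2, 1, 2, 1, 3, 1, 2, 1, 3]

theorem rel2_chk : ∀ w ∈ S2.exactL ++ (S2.symL ++ S2.cenL), scal (codeW3 w) = true := by
  decide +kernel

theorem rel1_chk : ∀ w ∈ S1.exactL ++ (S1.symL ++ S1.cenL), scal (codeW3 (w.flatMap sub2)) = true := by
  decide +kernel

theorem ha_chk : scal (codeW3 (1 :: wordA.flatMap sub2)) = true := by decide +kernel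
theorem hb_chk : scal (codeW3 (3 :: wordB.flatMap sub2)) = true := by decide +kernel
theorem u_chk : scal (codeW3 [0, 2, 0, 3]) = false := by decide +kernel
theorem v_chk : scal (codeW3 [0, 2, 0, 2, 0, 2]) = false := by decide +kernel
theorem c_chk : scal (codeW3 [4]) = false := by decide +kernel
theorem d_chk : scal (mulE (codeW3 wDi) dE) = true := by decide +kernel
theorem b_chk : scal (mulE (codeW3 wBi) bE) = true := by decide +kernel
theorem cc_chk : scal (mulE (codeW3 wCi) cE) = true := by decide +kernel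

end Cfsg.Agent.Lib.H12.J3M
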